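import Cfsg.Agent.Omega.NO1.Plus.RM
import Cfsg.Agent.Lib.SylowNormalInf
import Cfsg.Agent.ZN.ChoiceNse

/-!
# THEOREM PLUS (#16852), part 1: (1)-(3)

`Flat T M B E F F₁` : the module setting of TEXT B4 (`Y = P/C_P(V_P)`, `V = V_P`, `B` = image of `W_F`);
`PFlat` : with `(+)` : `y ∈ Ω ∩ E ⟹ M_y = M`.  `q = |V : E|`.

* `PFlat.free`, `PFlat.reg`, `PFlat.card_B` : `|B| = |E : F| = q²`, `B` is semiregular on the points `≠ M`;
* `PFlat.opp1`, `PFlat.opp2` : `V = g F₁ ⊕ E` for `g ∉ M`, `|F₁| = q`;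
* `PFlat.fib`, `PFlat.fib2` : the quadratic map `b ↦ b w + g E` is onto with fibres `≥ 2`;
* `PFlat.trans` : `B` is transitive on the points `≠ M`.
-/

set_option autoImplicit false
set_option linter.unusedSectionVars false

namespace Cfsg.Agent.Omega.NO1.Plus

open Subgroup
open Cfsg.Agent.ZN.ChoiceBase (cj mem_cj cj_mono cj_one cj_cj cj_inv_cj cj_cj_inv cj_le_iff card_cj
  mem_normalizer_iff_cj cj_eq_of_mem_normalizer mem_normalizer_of_cj_le isPGroup_cj cj_inf cj_normalizer)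
open Cfsg.Agent.ZN.ChoiceSit (Syl syl_conj exists_syl)
open scoped Pointwise

variable {Y : Type*} [Group Y] {V : Type*} [AddCommGroup V] [DistribMulAction Y V]

/-- The module setting. -/
structure Flat (T : Sylow 2 Y) (M B : Subgroup Y) (E F F₁ : AddSubgroup V) : Prop where
  two : ∀ v : V, v + v = 0
  faith : ∀ g : Y, (∀ v : V, g • v = v) → g = 1
  TM : (T : Subgroup Y) ≤ M
  M_ne : M ≠ ⊤
  max : ∀ X : Subgroup Y, (T : Subgroup Y) ≤ X → X ≠ ⊤ → X ≤ M
  o2 : ∀ N : Subgroup Y, N.Normal → IsPGroup 2 N → N = ⊥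
  BT : B ≤ T
  Bsq : ∀ b ∈ B, b * b = 1
  F_iff : ∀ v : V, v ∈ F ↔ ∀ b ∈ B, b • v = v
  VE : ∀ b ∈ B, ∀ v : V, b • v + v ∈ E
  EF₁ : ∀ b ∈ B, ∀ e ∈ E, b • e + e ∈ F₁
  F₁F : F₁ ≤ F
  FE : F ≤ E
  E_ne : E ≠ ⊤
  surj : ∀ w : V, w ∉ E → ∀ e ∈ E, ∃ b ∈ B, b • w + w + e ∈ F
  inj : ∀ b ∈ B, ∀ w : V, w ∉ E → b • w + w ∈ F → ∀ v : V, b • v + v ∈ F
  /-- the Pfaffian bound -/
  pf : E.index ^ 2 ≤ F.relIndex E
  eq₁ : F.relIndex E = E.index ^ 2 → ∀ b ∈ B, (∃ v : V, b • v + v ∉ F) → ∀ f ∈ F₁, ∃ e ∈ E, b • e + e = f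
  eq₂ : F.relIndex E = E.index ^ 2 → Nat.card F₁ ≤ E.index

/-- The setting with `(+)`. -/
structure PFlat (T : Sylow 2 Y) (M B : Subgroup Y) (E F F₁ : AddSubgroup V) : Prop extends
    Flat T M B E F F₁ where
  plus : ∀ (g : Y) (z : V), z ≠ 0 → (∀ t ∈ (T : Subgroup Y), t • z = z) → g • z ∈ E → g ∈ M

section fixed

theorem two_dvd [Finite V] (two : ∀ v : V, v + v = 0) {R : AddSubgroup V} {r : V} (hr : r ∈ R) (hr0 : r ≠ 0) :
    2 ∣ Nat.card R := by
  have h1 : addOrderOf (⟨r, hr⟩ : R) = 2 := by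
    refine addOrderOf_eq_prime ?_ fun h => hr0 (congrArg Subtype.val h)
    exact Subtype.ext (by rw [two_nsmul]; exact two r)
  rw [← h1]
  exact addOrderOf_dvd_natCard _

/-- A 2-group acting on an invariant nontrivial subgroup of exponent 2 has a nontrivial fixed point. -/
theorem exists_fixed [Finite V] (two : ∀ v : V, v + v = 0) {Q : Subgroup Y} (hQ : IsPGroup 2 Q)
    {R : AddSubgroup V} (hR : ∀ q ∈ Q, ∀ r ∈ R, q • r ∈ R) (hne : R ≠ ⊥) :
    ∃ z ∈ R, z ≠ 0 ∧ ∀ q ∈ Q, q • z = z := by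
  have hp : Fact (Nat.Prime 2) := ⟨Nat.prime_two⟩
  let S : SubMulAction Q V := ⟨R, fun q {r} hr => hR q q.2 r hr⟩
  have hfin : Finite S := inferInstanceAs (Finite R)
  obtain ⟨⟨r, hr⟩, hr0⟩ := AddSubgroup.ne_bot_iff_exists_ne_zero.1 hne
  have hr0' : r ≠ 0 := fun h => hr0 (Subtype.ext h)
  have hd : 2 ∣ Nat.card S := two_dvd two hr hr0'
  obtain ⟨b, hb, hb0⟩ := hQ.exists_fixed_point_of_prime_dvd_card_of_fixed_point S hd
    (a := ⟨0, R.zero_mem⟩) (fun q => Subtype.ext (smul_zero _))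
  exact ⟨b.1, b.2, fun h => hb0 (Subtype.ext h.symm), fun q hq => congrArg Subtype.val (hb ⟨q, hq⟩)⟩

/-- the indicator degree of `b ↦ b v` -/
theorem deg_smul {B : Subgroup Y} {E F₁ F : AddSubgroup V} (VE : ∀ b ∈ B, ∀ v : V, b • v + v ∈ E)
    (EF₁ : ∀ b ∈ B, ∀ e ∈ E, b • e + e ∈ F₁) (F₁F : F₁ ≤ F) (hF : ∀ v ∈ F, ∀ b ∈ B, b • v = v) (v : V)
    (l : V →+ ZMod 2) : Deg 2 fun b : B => l ((b : Y) • v) := by
  have key : ∀ a b x : B, l (((x * b * a : B) : Y) • v) + l (((x * b : B) : Y) • v) +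
      (l (((x * a : B) : Y) • v) + l ((x : Y) • v)) =
      l ((b : Y) • ((a : Y) • v + v) + ((a : Y) • v + v)) := by
    intro a b x
    have h1 : (b : Y) • ((a : Y) • v + v) + ((a : Y) • v + v) ∈ F := F₁F (EF₁ b b.2 _ (VE a a.2 v))
    rw [← hF _ h1 x x.2]
    simp only [coe_mul, mul_smul, smul_add, map_add]
  intro a b x y
  exact (key a b x).trans (key a b y).symm

end fixed

namespace Flat

variable {T : Sylow 2 Y} {M B : Subgroup Y} {E F F₁ : AddSubgroup V} (h : Flat T M B E F F₁)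
include h

theorem add_self (v : V) : v + v = 0 := h.two v

theorem neg (v : V) : -v = v := neg_eq_of_add_eq_zero_left (h.two v)

theorem add_eq_zero {v w : V} : v + w = 0 ↔ v = w := by
  rw [add_eq_zero_iff_eq_neg, h.neg]

theorem cancel (v w : V) : v + w + w = v := by rw [add_assoc, h.two, add_zero]

theorem F_fix {v : V} (hv : v ∈ F) {b : Y} (hb : b ∈ B) : b • v = v := (h.F_iff v).1 hv b hb

theorem BM : B ≤ M := h.BT.trans h.TM

theorem comm {a b : Y} (ha : a ∈ B) (hb : b ∈ B) : a * b = b * a := by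
  have h1 := h.Bsq _ (mul_mem ha hb)
  have h2 : a * b = (a * b)⁻¹ := (inv_eq_of_mul_eq_one_left h1).symm
  rw [h2, mul_inv_rev, inv_eq_of_mul_eq_one_left (h.Bsq a ha), inv_eq_of_mul_eq_one_left (h.Bsq b hb)]

theorem inv_eq {b : Y} (hb : b ∈ B) : b⁻¹ = b := inv_eq_of_mul_eq_one_left (h.Bsq b hb)

theorem smul_smul_self {b : Y} (hb : b ∈ B) (v : V) : b • b • v = v := by
  rw [smul_smul, h.Bsq b hb, one_smul]

theorem deg (v : V) (l : V →+ ZMod 2) : Deg 2 fun b : B => l ((b : Y) • v) :=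
  deg_smul h.VE h.EF₁ h.F₁F (fun v hv b hb => h.F_fix hv hb) v l

theorem exists_g : ∃ g : Y, g ∉ M := by
  by_contra hcon
  push Not at hcon
  exact h.M_ne (eq_top_iff.2 fun x _ => hcon x)

theorem exists_w : ∃ w : V, w ∉ E := by
  by_contra hcon
  push Not at hcon
  exact h.E_ne (eq_top_iff.2 fun x _ => hcon x)

theorem exists_z [Finite V] : ∃ z : V, z ≠ 0 ∧ ∀ t ∈ (T : Subgroup Y), t • z = z := by
  obtain ⟨w, hw⟩ := h.exists_w
  obtain ⟨z, -, hz, hz'⟩ := exists_fixed h.two T.isPGroup' (R := (⊤ : AddSubgroup V))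
    (fun _ _ _ _ => trivial) (by
      intro h1
      have : w ∈ (⊤ : AddSubgroup V) := trivial
      rw [h1, AddSubgroup.mem_bot] at this
      exact hw (this ▸ E.zero_mem))
  exact ⟨z, hz, hz'⟩

theorem syl : Syl (T : Subgroup Y) M := ⟨h.TM, T.isPGroup', fun _ _ hQ hTQ => T.is_maximal' hQ hTQ⟩

theorem isPGroup_B : IsPGroup 2 B := T.isPGroup'.to_le h.BT

/-- a 2-element of `M` fixes `m z`, `m ∈ M` -/
theorem exists_m [Finite Y] {Q : Subgroup Y} (hQ : IsPGroup 2 Q) (hQM : Q ≤ M) : ∃ m ∈ M, cj m Q ≤ T := by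
  obtain ⟨R, hR, hQR⟩ := exists_syl hQ hQM
  obtain ⟨m, hm, hm'⟩ := syl_conj hR h.syl
  exact ⟨m, hm, by rw [← hm']; exact cj_mono m hQR⟩

/-- 2-subgroups of the kernel on the points are trivial. -/
theorem core [Finite Y] {Q : Subgroup Y} (hQ : IsPGroup 2 Q) (hQM : Q ≤ M.normalCore) : Q = ⊥ := by
  have hp : Fact (Nat.Prime 2) := ⟨Nat.prime_two⟩
  have hfr := Lib.SylowNormalInf.normalizer_inf_sup_eq_top T M.normalCore
  have hTn : (T : Subgroup Y) ≤ normalizer (((T : Subgroup Y) ⊓ M.normalCore : Subgroup Y) : Set Y) := by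
    intro x hx
    rw [mem_normalizer_iff_cj, cj_inf, mem_normalizer_iff_cj.1 (le_normalizer hx)]
    congr 1
    rw [← mem_normalizer_iff_cj, normalizer_eq_top M.normalCore]
    trivial
  have htop : normalizer (((T : Subgroup Y) ⊓ M.normalCore : Subgroup Y) : Set Y) = ⊤ := by
    by_contra hne
    have h1 := h.max _ hTn hne
    rw [sup_eq_left.2 ((normalCore_le M).trans ?_)] at hfr
    · exact hne hfr
    · exfalso
      apply h.M_ne
      rw [eq_top_iff, ← hfr]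
      exact sup_le h1 (normalCore_le M)
  have h1 : (T : Subgroup Y) ⊓ M.normalCore = ⊥ :=
    h.o2 _ (normalizer_eq_top_iff.1 htop) (T.isPGroup'.to_le inf_le_left)
  obtain ⟨m, hm, hm'⟩ := h.exists_m hQ (hQM.trans (normalCore_le M))
  have h2 : cj m Q ≤ (T : Subgroup Y) ⊓ M.normalCore := by
    refine le_inf hm' ?_
    have h3 : cj m Q ≤ cj m M.normalCore := cj_mono m hQM
    have h4 : m ∈ normalizer (M.normalCore : Set Y) := by rw [normalizer_eq_top M.normalCore]; trivial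
    rwa [cj_eq_of_mem_normalizer h4] at h3
  rw [h1, le_bot_iff] at h2
  have h3 := congrArg (cj m⁻¹) h2
  rwa [cj_inv_cj, cj, Subgroup.map_bot] at h3

/-- the hom `b ↦ [w, b] + F` -/
def th (w : V) : B →* Multiplicative (E ⧸ F.addSubgroupOf E) where
  toFun b := Multiplicative.ofAdd (QuotientAddGroup.mk ⟨(b : Y) • w + w, h.VE b b.2 w⟩)
  map_one' := by
    rw [← ofAdd_zero]
    congr 1
    rw [QuotientAddGroup.eq_zero_iff, AddSubgroup.mem_addSubgroupOf]
    change (1 : Y) • w + w ∈ F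
    rw [one_smul, h.two]
    exact F.zero_mem
  map_mul' a b := by
    rw [← ofAdd_add]
    congr 1
    rw [← QuotientAddGroup.mk_add, QuotientAddGroup.eq, AddSubgroup.mem_addSubgroupOf]
    change -(((a : Y) * b) • w + w) + (((a : Y) • w + w) + ((b : Y) • w + w)) ∈ F
    rw [h.neg]
    have h1 := h.F₁F (h.EF₁ a a.2 _ (h.VE b b.2 w))
    have e : ((a : Y) * b) • w + w + ((a : Y) • w + w + ((b : Y) • w + w)) =
        (a : Y) • ((b : Y) • w + w) + ((b : Y) • w + w) + (w + w) := by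
      rw [mul_smul, smul_add]; abel
    rw [e, h.two, add_zero]
    exact h1

theorem mem_ker {w : V} {b : B} : b ∈ (h.th w).ker ↔ (b : Y) • w + w ∈ F := by
  rw [MonoidHom.mem_ker, ← ofAdd_zero]
  change Multiplicative.ofAdd _ = Multiplicative.ofAdd _ ↔ _
  rw [Multiplicative.ofAdd.injective.eq_iff, QuotientAddGroup.eq_zero_iff, AddSubgroup.mem_addSubgroupOf]

theorem card_B_eq [Finite Y] [Finite V] {w : V} (hw : w ∉ E) :
    Nat.card B = Nat.card (h.th w).ker * F.relIndex E := by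
  have hs : Function.Surjective (h.th w) := by
    intro x
    obtain ⟨y, rfl⟩ := Multiplicative.ofAdd.surjective x
    obtain ⟨⟨e, he⟩, rfl⟩ := QuotientAddGroup.mk_surjective y
    obtain ⟨b, hb, hbe⟩ := h.surj w hw e he
    refine ⟨⟨b, hb⟩, ?_⟩
    change Multiplicative.ofAdd _ = Multiplicative.ofAdd _
    congr 1
    rw [QuotientAddGroup.eq, AddSubgroup.mem_addSubgroupOf]
    change -(b • w + w) + e ∈ F
    rw [h.neg]
    exact hbe
  have h1 := card_mul_index (h.th w).ker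
  rw [index_ker, MonoidHom.range_eq_top.2 hs, card_top] at h1
  rw [← h1]
  rfl

end Flat

namespace PFlat

variable {T : Sylow 2 Y} {M B : Subgroup Y} {E F F₁ : AddSubgroup V} (h : PFlat T M B E F F₁)
include h

/-- an element of `B - N` fixes only the point `M` -/
theorem free_aux [Finite Y] [Finite V] {b : Y} (hb : b ∈ B) (hbN : ∃ v : V, b • v + v ∉ F) {g : Y}
    (hg : g⁻¹ * b * g ∈ M) : g ∈ M := by
  obtain ⟨z, hz0, hz⟩ := h.exists_z
  have h2 : IsPGroup 2 (zpowers (g⁻¹ * b * g)) := by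
    have h3 := isPGroup_cj g⁻¹ (h.isPGroup_B)
    refine h3.to_le ?_
    rw [zpowers_le, mem_cj]
    have e : g⁻¹⁻¹ * (g⁻¹ * b * g) * g⁻¹ = b := by group
    rwa [e]
  obtain ⟨m, hm, hm'⟩ := h.exists_m h2 (by rwa [zpowers_le])
  have h3 : m * (g⁻¹ * b * g) * m⁻¹ ∈ (T : Subgroup Y) := by
    apply hm'
    rw [mem_cj]
    have e : m⁻¹ * (m * (g⁻¹ * b * g) * m⁻¹) * m = g⁻¹ * b * g := by group
    rw [e]
    exact mem_zpowers _
  have h4 := hz _ h3
  -- `b` fixes `g m⁻¹ z`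
  have h5 : b • (g * m⁻¹) • z = (g * m⁻¹) • z := by
    have e : m * (g⁻¹ * b * g) * m⁻¹ = (g * m⁻¹)⁻¹ * b * (g * m⁻¹) := by group
    rw [e, mul_smul, mul_smul, inv_smul_eq_iff] at h4
    exact h4
  have h6 : (g * m⁻¹) • z ∈ E := by
    by_contra hE
    obtain ⟨v, hv⟩ := hbN
    refine hv (h.inj b hb _ hE ?_ v)
    rw [h5, h.two]
    exact F.zero_mem
  have h7 := M.mul_mem (h.plus _ _ hz0 hz h6) hm
  rwa [inv_mul_cancel_right] at h7

omit h in
theorem index_smul (g : Y) : (g • E).index = E.index := by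
  have h1 := AddSubgroup.relIndex_pointwise_smul g E (⊤ : AddSubgroup V)
  have h2 : g • (⊤ : AddSubgroup V) = ⊤ := by
    rw [eq_top_iff]
    intro x _
    rw [AddSubgroup.mem_pointwise_smul_iff_inv_smul_mem]
    trivial
  rwa [h2, AddSubgroup.relIndex_top_right, AddSubgroup.relIndex_top_right] at h1

/-- the group `N` -/
theorem zero_sub [Finite Y] [Finite V] {g : Y} (hg : g ∉ M) {z : V} (hz0 : z ≠ 0)
    (hz : ∀ t ∈ (T : Subgroup Y), t • z = z) {w : V} (hw : w ∉ E) {b : B} (hb : (b : Y) • g • z ∈ g • E) :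
    b ∈ (h.th w).ker ∧ g⁻¹ * b * g ∈ M := by
  rw [AddSubgroup.mem_pointwise_smul_iff_inv_smul_mem, smul_smul, smul_smul] at hb
  have h1 := h.plus _ _ hz0 hz hb
  refine ⟨?_, h1⟩
  rw [h.mem_ker]
  by_contra hF
  exact hg (h.free_aux b.2 ⟨w, hF⟩ h1)

theorem card_le [Finite Y] [Finite V] {g : Y} (hg : g ∉ M) {z : V} (hz0 : z ≠ 0)
    (hz : ∀ t ∈ (T : Subgroup Y), t • z = z) :
    Nat.card B ≤ {b : B | (b : Y) • g • z ∈ g • E}.ncard * E.index ^ 2 := by
  have hzF : z ∈ F := (h.F_iff z).2 fun b hb => hz b (h.BT hb)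
  have h1 := rmq (A := B) (fun a => Subtype.ext (h.Bsq a a.2)) h.two (φ := fun b : B => (b : Y) • g • z)
    (fun l => h.deg (g • z) l) (C := g • E) (H := ⊤) le_top (fun _ => trivial)
    ⟨1, by
      change (1 : Y) • g • z ∈ g • E
      rw [one_smul]
      exact AddSubgroup.smul_mem_pointwise_smul _ _ _ (h.FE hzF)⟩
  rwa [AddSubgroup.relIndex_top_right, index_smul] at h1

/-- **(1)**: `N = 1` and `|E : F| = q²`. -/
theorem one [Finite Y] [Finite V] : F.relIndex E = E.index ^ 2 ∧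
    ∀ b ∈ B, (∀ v : V, b • v + v ∈ F) → b = 1 := by
  obtain ⟨z, hz0, hz⟩ := h.exists_z
  obtain ⟨w, hw⟩ := h.exists_w
  have hq : 0 < E.index := by rw [AddSubgroup.index_eq_card]; exact Nat.card_pos
  have hk : 0 < Nat.card (h.th w).ker := Nat.card_pos
  have hcard := h.card_B_eq hw
  have hcc : Nat.card (h.th w).ker = ((h.th w).ker : Set B).ncard := Nat.card_coe_set_eq _
  -- zeros are `N`
  have key : ∀ g : Y, g ∉ M → F.relIndex E = E.index ^ 2 ∧ ∀ b ∈ (h.th w).ker, g⁻¹ * (b : Y) * g ∈ M := by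
    intro g hg
    have h1 := h.card_le hg hz0 hz
    have hsub : {b : B | (b : Y) • g • z ∈ g • E} ⊆ ((h.th w).ker : Set B) :=
      fun b hb => (h.zero_sub hg hz0 hz hw hb).1
    have h2 : {b : B | (b : Y) • g • z ∈ g • E}.ncard ≤ Nat.card (h.th w).ker := by
      rw [hcc]
      exact Set.ncard_le_ncard hsub
    rw [hcard] at h1
    have h3 : Nat.card (h.th w).ker * E.index ^ 2 ≤ Nat.card (h.th w).ker * F.relIndex E :=
      Nat.mul_le_mul_left _ h.pf
    have h4 : Nat.card (h.th w).ker ≤ {b : B | (b : Y) • g • z ∈ g • E}.ncard :=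
      Nat.le_of_mul_le_mul_right (h3.trans h1) (by positivity)
    have h5 : F.relIndex E ≤ E.index ^ 2 :=
      Nat.le_of_mul_le_mul_left (h1.trans (Nat.mul_le_mul_right _ h2)) hk
    refine ⟨le_antisymm h5 h.pf, fun b hb => ?_⟩
    have h6 : {b : B | (b : Y) • g • z ∈ g • E} = ((h.th w).ker : Set B) := by
      refine Set.eq_of_subset_of_ncard_le hsub ?_
      rw [← hcc]
      exact h4
    have h7 : b ∈ {b : B | (b : Y) • g • z ∈ g • E} := by rw [h6]; exact hb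
    exact (h.zero_sub hg hz0 hz hw h7).2
  obtain ⟨g0, hg0⟩ := h.exists_g
  refine ⟨(key g0 hg0).1, ?_⟩
  -- `N` lies in the kernel on the points
  have h1 : (h.th w).ker.map B.subtype ≤ M.normalCore := by
    rintro _ ⟨b, hb, rfl⟩ g
    rw [mul_assoc]
    have h2 : (g⁻¹)⁻¹ * (b : Y) * g⁻¹ ∈ M := by
      by_cases hg : g⁻¹ ∈ M
      · exact mul_mem (mul_mem (inv_mem hg) (h.BM b.2)) hg
      · exact (key _ hg).2 b hb
    rw [inv_inv, mul_assoc] at h2
    exact h2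
  have h2 := h.core ((h.isPGroup_B.to_subgroup (h.th w).ker).map B.subtype) h1
  intro b hb hbF
  have h3 : b ∈ (h.th w).ker.map B.subtype := ⟨⟨b, hb⟩, h.mem_ker.2 (hbF w), rfl⟩
  rw [h2, mem_bot] at h3
  exact h3

theorem q_pos [Finite V] : 0 < E.index := by rw [AddSubgroup.index_eq_card]; exact Nat.card_pos

theorem two_le [Finite V] : 2 ≤ E.index := by
  have h1 := h.q_pos
  have h2 : E.index ≠ 1 := fun h3 => h.E_ne (AddSubgroup.index_eq_one.1 h3)
  omega

theorem reg [Finite Y] [Finite V] {b : Y} (hb : b ∈ B) (hb1 : b ≠ 1) {w : V} (hw : w ∉ E) : b • w + w ∉ F :=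
  fun hF => hb1 (h.one.2 b hb (h.inj b hb w hw hF))

theorem fix_mem [Finite Y] [Finite V] {b : Y} (hb : b ∈ B) (hb1 : b ≠ 1) {w : V} (hw : b • w = w) : w ∈ E := by
  by_contra hE
  apply h.reg hb hb1 hE
  rw [hw, h.two]
  exact F.zero_mem

/-- **(1)** `B` is semiregular on the points `≠ M` -/
theorem free [Finite Y] [Finite V] {b : Y} (hb : b ∈ B) {g : Y} (hg : g ∉ M) (hbg : g⁻¹ * b * g ∈ M) : b = 1 := by
  refine h.one.2 b hb fun v => ?_
  by_contra hv
  exact hg (h.free_aux hb ⟨v, hv⟩ hbg)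

/-- **(1)** `|B| = q²` -/
theorem card_B [Finite Y] [Finite V] : Nat.card B = E.index ^ 2 := by
  obtain ⟨w, hw⟩ := h.exists_w
  have h1 : (h.th w).ker = ⊥ := by
    rw [eq_bot_iff]
    intro b hb
    rw [mem_bot]
    exact Subtype.ext (h.one.2 b b.2 (h.inj b b.2 w hw (h.mem_ker.1 hb)))
  rw [h.card_B_eq hw, h1, card_bot, one_mul, h.one.1]

theorem card_F₁ [Finite Y] [Finite V] : Nat.card F₁ ≤ E.index := h.eq₂ h.one.1

theorem full [Finite Y] [Finite V] {b : Y} (hb : b ∈ B) (hb1 : b ≠ 1) {f : V} (hf : f ∈ F₁) :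
    ∃ e ∈ E, b • e + e = f := by
  refine h.eq₁ h.one.1 b hb ?_ f hf
  by_contra hcon
  push Not at hcon
  exact hb1 (h.one.2 b hb hcon)

theorem exists_b [Finite Y] [Finite V] : ∃ b ∈ B, b ≠ 1 := by
  by_contra hcon
  push Not at hcon
  have h1 : B = ⊥ := (eq_bot_iff_forall _).2 hcon
  have h2 := h.card_B
  rw [h1, card_bot] at h2
  have := h.two_le
  nlinarith

/-- **(2)** `V = F₁ + g E` for `g ∉ M`. -/
theorem sup_eq_top [Finite Y] [Finite V] {g : Y} (hg : g ∉ M) : F₁ ⊔ g • E = ⊤ := by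
  by_contra hne
  obtain ⟨v, hv⟩ : ∃ v : V, v ∉ F₁ ⊔ g • E := by
    by_contra hcon
    push Not at hcon
    exact hne (eq_top_iff.2 fun x _ => hcon x)
  obtain ⟨l, hl, hlv⟩ := exists_fun h.two hv
  obtain ⟨z, hz0, hz⟩ := h.exists_z
  have hzE : z ∈ E := h.FE ((h.F_iff z).2 fun b hb => hz b (h.BT hb))
  have hxE : g • z ∈ g • E := AddSubgroup.smul_mem_pointwise_smul _ _ _ hzE
  have hlx : l (g • z) = 0 := hl _ ((le_sup_right : g • E ≤ F₁ ⊔ g • E) hxE)
  -- `b ↦ l (b x)` is a homomorphism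
  let ψ : B →* Multiplicative (ZMod 2) :=
    { toFun := fun b => Multiplicative.ofAdd (l ((b : Y) • g • z))
      map_one' := by
        rw [← ofAdd_zero]
        congr 1
        change l ((1 : Y) • g • z) = 0
        rw [one_smul, hlx]
      map_mul' := fun a b => by
        rw [← ofAdd_add]
        congr 1
        have h1 : (a : Y) • ((b : Y) • g • z + g • z) + ((b : Y) • g • z + g • z) ∈ F₁ :=
          h.EF₁ a a.2 _ (h.VE b b.2 _)
        have h2 := hl _ ((le_sup_left : F₁ ≤ F₁ ⊔ g • E) h1)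
        simp only [smul_add, map_add, hlx, add_zero] at h2
        change l (((a : Y) * b) • g • z) = _
        rw [mul_smul]
        have h3 : ∀ x y z : ZMod 2, x + y + z = 0 → x = y + z := by decide
        exact h3 _ _ _ h2 }
  have hidx : ψ.ker.index ≤ 2 := by
    rw [index_ker]
    have h1 : Nat.card (Multiplicative (ZMod 2)) = 2 := by
      rw [Nat.card_congr Multiplicative.toAdd]; exact Nat.card_zmod 2
    exact (Nat.card_le_card_of_injective _ (Subtype.val_injective (p := fun x => x ∈ ψ.range))).trans h1.le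
  have hB1 : Nat.card B ≤ Nat.card ψ.ker * 2 := by
    rw [← card_mul_index ψ.ker]
    exact Nat.mul_le_mul_left _ hidx
  -- the kernel of `l`
  have hCH : g • E ≤ l.ker := fun x hx => (l.mem_ker).2 (hl _ ((le_sup_right : g • E ≤ F₁ ⊔ g • E) hx))
  have h1 := rmq (A := ψ.ker) (fun a => Subtype.ext (Subtype.ext (h.Bsq _ a.1.2))) h.two
    (φ := fun b : ψ.ker => ((b : B) : Y) • g • z) (fun l' => (h.deg (g • z) l').comp ψ.ker.subtype)
    hCH (fun b => (l.mem_ker).2 (by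
      have h2 := b.2
      rw [MonoidHom.mem_ker] at h2
      exact Multiplicative.ofAdd.injective h2))
    ⟨1, by
      change (1 : Y) • g • z ∈ g • E
      rw [one_smul]
      exact hxE⟩
  have h2 : {b : ψ.ker | ((b : B) : Y) • g • z ∈ g • E}.ncard ≤ 1 := by
    rw [Set.ncard_le_one]
    intro a ha b hb
    have h3 : ∀ c : ψ.ker, ((c : B) : Y) • g • z ∈ g • E → c = 1 := by
      intro c hc
      rw [AddSubgroup.mem_pointwise_smul_iff_inv_smul_mem, smul_smul, smul_smul] at hc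
      exact Subtype.ext (Subtype.ext (h.free c.1.2 hg (h.plus _ _ hz0 hz hc)))
    rw [h3 a ha, h3 b hb]
  have h3 : (g • E).relIndex l.ker * l.ker.relIndex ⊤ = (g • E).relIndex ⊤ :=
    AddSubgroup.relIndex_mul_relIndex _ _ _ hCH le_top
  have h4 : l.ker.relIndex ⊤ = 2 := by
    rw [AddSubgroup.relIndex_top_right, AddSubgroup.index_ker]
    have h5 : l.range = ⊤ := by
      rw [AddMonoidHom.range_eq_top]
      intro x
      have : x = 0 ∨ x = 1 := by revert x; decide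
      rcases this with rfl | rfl
      · exact ⟨0, map_zero l⟩
      · exact ⟨v, hlv⟩
    rw [h5, AddSubgroup.card_top]
    exact Nat.card_zmod 2
  rw [h4, AddSubgroup.relIndex_top_right, index_smul] at h3
  have h5 := h.card_B
  have h6 := h.two_le
  have h7 : Nat.card ψ.ker ≤ (g • E).relIndex l.ker ^ 2 :=
    h1.trans (by nlinarith [Nat.mul_le_mul_right ((g • E).relIndex l.ker ^ 2) h2])
  rw [h5, ← h3] at hB1
  nlinarith

theorem card_facts [Finite Y] [Finite V] {g : Y} (hg : g ∉ M) : F₁ ⊓ g • E = ⊥ ∧ Nat.card F₁ = E.index := by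
  have h1 := h.sup_eq_top hg
  have h2 : (g • E).relIndex (F₁ ⊔ g • E) = (g • E).relIndex F₁ := AddSubgroup.relIndex_sup_right _ _
  rw [h1, AddSubgroup.relIndex_top_right, index_smul] at h2
  have h3 : (g • E).relIndex F₁ * Nat.card ↥(F₁ ⊓ g • E) = Nat.card F₁ := by
    have e := AddSubgroup.relIndex_inf_mul_relIndex (⊥ : AddSubgroup V) (g • E) F₁
    rw [AddSubgroup.relIndex_bot_left, bot_inf_eq, AddSubgroup.relIndex_bot_left, mul_comm, inf_comm] at e
    exact e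
  rw [← h2] at h3
  have h4 := h.card_F₁
  have h5 := h.q_pos
  have h6 : 0 < Nat.card ↥(F₁ ⊓ g • E) := Nat.card_pos
  have h7 : Nat.card ↥(F₁ ⊓ g • E) = 1 := by nlinarith
  refine ⟨AddSubgroup.card_eq_one.1 h7, ?_⟩
  rw [← h3, h7, mul_one]

theorem opp1 [Finite Y] [Finite V] {g : Y} (hg : g ∉ M) {f : V} (hf : f ∈ F₁) (hfE : g • f ∈ E) : f = 0 := by
  have h1 := (h.card_facts (g := g⁻¹) (fun h2 => hg (by simpa using inv_mem h2))).1
  have h2 : f ∈ F₁ ⊓ g⁻¹ • E := by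
    refine AddSubgroup.mem_inf.2 ⟨hf, ?_⟩
    rw [AddSubgroup.mem_pointwise_smul_iff_inv_smul_mem, inv_inv]
    exact hfE
  rw [h1] at h2
  exact (AddSubgroup.mem_bot).1 h2

theorem opp2 [Finite Y] [Finite V] {g : Y} (hg : g ∉ M) (v : V) : ∃ f ∈ F₁, v + g • f ∈ E := by
  have h1 := h.sup_eq_top (g := g⁻¹) (fun h2 => hg (by simpa using inv_mem h2))
  have h2 : g⁻¹ • v ∈ F₁ ⊔ g⁻¹ • E := by rw [h1]; trivial
  obtain ⟨f, hf, e, he, hfe⟩ := AddSubgroup.mem_sup.1 h2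
  refine ⟨f, hf, ?_⟩
  rw [AddSubgroup.mem_pointwise_smul_iff_inv_smul_mem, inv_inv] at he
  have e1 : v + g • f = g • e := by
    have e2 : v = g • (f + e) := by rw [hfe, smul_smul, mul_inv_cancel, one_smul]
    calc v + g • f = g • (f + e) + g • f := by rw [← e2]
      _ = g • e + (g • f + g • f) := by rw [smul_add]; abel
      _ = g • e := by rw [h.two, add_zero]
  rw [e1]
  exact he

theorem F₁_ne [Finite Y] [Finite V] : ∃ f ∈ F₁, f ≠ 0 := by
  obtain ⟨g, hg⟩ := h.exists_g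
  by_contra hcon
  push Not at hcon
  have h1 : F₁ = ⊥ := (AddSubgroup.eq_bot_iff_forall _).2 hcon
  have h2 := (h.card_facts hg).2
  rw [h1, AddSubgroup.card_bot] at h2
  have := h.two_le
  omega

/-- The zeros of the quadratic map. -/
theorem zero_eq [Finite Y] [Finite V] {g : Y} (hg : g ∉ M) {f : V} (hf : f ∈ F₁) (hf0 : f ≠ 0) {b : Y}
    (hb : b ∈ B) (hbf : b • g • f ∈ g • E) : b = 1 := by
  rw [AddSubgroup.mem_pointwise_smul_iff_inv_smul_mem, smul_smul, smul_smul] at hbf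
  refine h.free hb hg ?_
  by_contra hcon
  exact hf0 (h.opp1 hcon hf hbf)

/-- **(2)**: three points in every fibre `≠ 0`. -/
theorem fib2 [Finite Y] [Finite V] {g : Y} (hg : g ∉ M) {f : V} (hf : f ∈ F₁) (hf0 : f ≠ 0) {v : V}
    (hv : v ∉ g • E) : ∃ b₁ ∈ B, ∃ b₂ ∈ B, b₁ ≠ b₂ ∧ b₁ • g • f + v ∈ g • E ∧ b₂ • g • f + v ∈ g • E := by
  set C : AddSubgroup V := g • E ⊔ AddSubgroup.zmultiples v with hC
  have hfE : g • f ∈ g • E := AddSubgroup.smul_mem_pointwise_smul _ _ _ (h.FE (h.F₁F hf))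
  have hle : g • E ≤ C := le_sup_left
  have hvC : v ∈ C := (le_sup_right : AddSubgroup.zmultiples v ≤ C) (AddSubgroup.mem_zmultiples v)
  have hC1 : ∀ x : V, x ∈ C → x ∈ g • E ∨ x + v ∈ g • E := by
    intro x hx
    obtain ⟨c, hc, y, hy, rfl⟩ := AddSubgroup.mem_sup.1 hx
    obtain ⟨m, rfl⟩ := AddSubgroup.mem_zmultiples_iff.1 hy
    rcases Int.even_or_odd' m with ⟨j, rfl | rfl⟩
    · left; rw [mul_comm, mul_zsmul, two_zsmul, h.two, zsmul_zero, add_zero]; exact hc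
    · right
      rw [add_zsmul, mul_comm, mul_zsmul, two_zsmul, h.two, zsmul_zero, one_zsmul, zero_add, add_assoc, h.two,
        add_zero]
      exact hc
  have hi : (g • E).relIndex C = 2 := by
    rw [AddSubgroup.relIndex_eq_two_iff]
    refine ⟨v, hvC, fun x hx => ?_⟩
    rcases hC1 x hx with h3 | h3
    · refine Or.inr ⟨h3, fun h4 => hv ?_⟩
      have := (g • E).sub_mem h4 h3
      simpa using this
    · refine Or.inl ⟨h3, fun h4 => hv ?_⟩
      have := (g • E).sub_mem h3 h4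
      simpa using this
  have h1 := rmq (A := B) (fun a => Subtype.ext (h.Bsq a a.2)) h.two (φ := fun b : B => (b : Y) • g • f)
    (fun l => h.deg (g • f) l) (C := C) (H := ⊤) le_top (fun _ => trivial)
    ⟨1, by
      change (1 : Y) • g • f ∈ C
      rw [one_smul]
      exact hle hfE⟩
  have h2 : (g • E).relIndex C * C.relIndex ⊤ = (g • E).relIndex ⊤ :=
    AddSubgroup.relIndex_mul_relIndex _ _ _ hle le_top
  rw [hi, AddSubgroup.relIndex_top_right, AddSubgroup.relIndex_top_right, index_smul] at h2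
  rw [AddSubgroup.relIndex_top_right, h.card_B, ← h2] at h1
  have hCpos : 0 < C.index := by rw [AddSubgroup.index_eq_card]; exact Nat.card_pos
  have h3 : 4 ≤ {b : B | (b : Y) • g • f ∈ C}.ncard := by
    have h4 : 0 < C.index ^ 2 := by positivity
    refine Nat.le_of_mul_le_mul_right ?_ h4
    calc 4 * C.index ^ 2 = (2 * C.index) ^ 2 := by ring
      _ ≤ _ := h1
  -- remove `1`
  have h4 : 3 ≤ ({b : B | (b : Y) • g • f ∈ C} \ {1}).ncard := by
    have := Set.ncard_le_ncard_sdiff_add_ncard {b : B | (b : Y) • g • f ∈ C} {1}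
    rw [Set.ncard_singleton] at this
    omega
  obtain ⟨b₁, hb₁, b₂, hb₂, hne⟩ := (Set.one_lt_ncard (Set.toFinite _)).1 (by omega :
    1 < ({b : B | (b : Y) • g • f ∈ C} \ {1}).ncard)
  have h5 : ∀ b ∈ ({b : B | (b : Y) • g • f ∈ C} \ {1}), (b : Y) • g • f + v ∈ g • E := by
    intro b hb
    rcases hC1 _ hb.1 with h6 | h6
    · exact absurd (Subtype.ext (h.zero_eq hg hf hf0 b.2 h6)) hb.2
    · exact h6
  exact ⟨b₁, b₁.2, b₂, b₂.2, fun e => hne (Subtype.ext e), h5 b₁ hb₁, h5 b₂ hb₂⟩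

/-- **(2)**: the quadratic map is onto. -/
theorem fib [Finite Y] [Finite V] {g : Y} (hg : g ∉ M) {f : V} (hf : f ∈ F₁) (hf0 : f ≠ 0) (v : V) :
    ∃ b ∈ B, b • g • f + v ∈ g • E := by
  by_cases hv : v ∈ g • E
  · refine ⟨1, one_mem _, ?_⟩
    rw [one_smul]
    exact add_mem (AddSubgroup.smul_mem_pointwise_smul _ _ _ (h.FE (h.F₁F hf))) hv
  · obtain ⟨b, hb, -, -, -, h1, -⟩ := h.fib2 hg hf hf0 hv
    exact ⟨b, hb, h1⟩

/-- **(3)** `B` is transitive on the points `≠ M`. -/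
theorem trans [Finite Y] [Finite V] {g k : Y} (hg : g ∉ M) (hk : k ∉ M) : ∃ b ∈ B, k⁻¹ * b * g ∈ M := by
  obtain ⟨f₀, hf₀, hf₀0⟩ := h.F₁_ne
  have hw : g • f₀ ∉ E := fun hE => hf₀0 (h.opp1 hg hf₀ hE)
  obtain ⟨f₁, hf₁, hf₁E⟩ := h.opp2 hk (g • f₀)
  obtain ⟨b, hb, hbF⟩ := h.surj _ hw _ hf₁E
  have e0 : b • g • f₀ + g • f₀ + (g • f₀ + k • f₁) = b • g • f₀ + k • f₁ := by
    rw [add_assoc, ← add_assoc (g • f₀) (g • f₀), h.two, zero_add]
  rw [e0] at hbF
  have hf₁0 : f₁ ≠ 0 := by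
    rintro rfl
    rw [smul_zero, add_zero] at hf₁E
    exact hw hf₁E
  set y : V := b • g • f₀ + k • f₁ with hy
  have hy1 : y = g • f₀ + b • k • f₁ := by
    have h1 := h.F_fix hbF hb
    rw [← h1, hy, smul_add, h.smul_smul_self hb]
  have h2 : y ∈ F₁ ⊔ g • E := by rw [h.sup_eq_top hg]; trivial
  obtain ⟨f, hf, r, hr, hfr⟩ := AddSubgroup.mem_sup.1 h2
  obtain ⟨c, hc, hcE⟩ := h.fib hg hf₀ hf₀0 f
  -- `c b k f₁ = y + c g f₀`
  have h3 : (c * b * k) • f₁ = y + c • g • f₀ := by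
    have e1 : b • k • f₁ = y + g • f₀ := by rw [hy1]; rw [add_comm (g • f₀), h.cancel]
    rw [mul_smul, mul_smul, e1, smul_add, h.F_fix hbF hc]
  have h4 : (c * b * k) • f₁ ∈ g • E := by
    rw [h3, ← hfr]
    have e2 : f + r + c • g • f₀ = (c • g • f₀ + f) + r := by abel
    rw [e2]
    exact add_mem hcE hr
  rw [AddSubgroup.mem_pointwise_smul_iff_inv_smul_mem, smul_smul] at h4
  have h5 : g⁻¹ * (c * b * k) ∈ M := by
    by_contra hcon
    exact hf₁0 (h.opp1 hcon hf₁ h4)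
  refine ⟨b⁻¹ * c⁻¹, mul_mem (inv_mem hb) (inv_mem hc), ?_⟩
  have h6 := inv_mem h5
  have e3 : (g⁻¹ * (c * b * k))⁻¹ = k⁻¹ * (b⁻¹ * c⁻¹) * g := by group
  rwa [e3] at h6

end PFlat

end Cfsg.Agent.Omega.NO1.Plus
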