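import Mathlib.GroupTheory.Sylow
import Mathlib.GroupTheory.Index
import Mathlib.Data.ZMod.Basic
import Mathlib.LinearAlgebra.Dual.Lemmas
import Mathlib.Data.Set.Card
import Mathlib.Algebra.Module.ZMod
import Mathlib.Algebra.Field.ZMod
import Mathlib.Tactic.LinearCombination
import Mathlib.Tactic.Group

/-!
# Reed-Muller distance (THEOREM PLUS, #16852)

`Deg d f` : the function `f : A → F₂` on the group `A` has degree `≤ d` (all `(d+1)`-th derivatives vanish).

* `weight_le` : a nonzero function of degree `≤ d` on an elementary abelian 2-group `A` has at least `|A| / 2 ^ d`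
  nonzeros;
* `rmq` : a quadratic map `φ : A → H ≤ V` which meets `C ≤ H` has `|A| ≤ |φ⁻¹(C)| |H : C|²`.
-/

set_option autoImplicit false

namespace Cfsg.Agent.Omega.NO1.Plus

open Subgroup

section deg

variable {A : Type*} [Group A]

/-- degree `≤ d` -/
def Deg {A : Type*} [Group A] : ℕ → (A → ZMod 2) → Prop
  | 0, f => ∀ x y, f x = f y
  | d + 1, f => ∀ a, Deg d fun x => f (x * a) + f x

theorem zadd (x : ZMod 2) : x + x = 0 := CharTwo.add_self_eq_zero x

theorem Deg.const (d : ℕ) (c : ZMod 2) : Deg (A := A) d fun _ => c := by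
  induction d generalizing c with
  | zero => exact fun _ _ => rfl
  | succ d ih => exact fun a => ih (c + c)

theorem Deg.succ {d : ℕ} {f : A → ZMod 2} (h : Deg d f) : Deg (d + 1) f := by
  induction d generalizing f with
  | zero =>
    intro a x y
    change f (x * a) + f x = f (y * a) + f y
    rw [h (x * a) (y * a), h x y]
  | succ d ih => exact fun a => ih (h a)

theorem Deg.mono {d e : ℕ} {f : A → ZMod 2} (h : Deg d f) (hde : d ≤ e) : Deg e f := by
  induction hde with
  | refl => exact h
  | step _ ih => exact ih.succ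

theorem Deg.add {d : ℕ} {f g : A → ZMod 2} (hf : Deg d f) (hg : Deg d g) : Deg d fun x => f x + g x := by
  induction d generalizing f g with
  | zero =>
    intro x y
    change f x + g x = f y + g y
    rw [hf x y, hg x y]
  | succ d ih =>
    intro a
    have h1 := ih (hf a) (hg a)
    have e : (fun x => f (x * a) + g (x * a) + (f x + g x)) = fun x => f (x * a) + f x + (g (x * a) + g x) := by
      funext x; ring
    change Deg d (fun x => f (x * a) + g (x * a) + (f x + g x))
    rw [e]
    exact h1

theorem Deg.translate {d : ℕ} {f : A → ZMod 2} (h : Deg d f) (a : A) : Deg d fun x => f (x * a) := by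
  induction d generalizing f with
  | zero => exact fun x y => h _ _
  | succ d ih =>
    intro b
    have h1 := ih (h (a⁻¹ * b * a))
    have e : (fun x => f (x * a * (a⁻¹ * b * a)) + f (x * a)) = fun x => f (x * b * a) + f (x * a) := by
      funext x
      congr 2
      group
    rw [e] at h1
    exact h1

theorem Deg.const_mul {d : ℕ} {f : A → ZMod 2} (h : Deg d f) (c : ZMod 2) : Deg d fun x => c * f x := by
  have hc : c = 0 ∨ c = 1 := by revert c; decide
  rcases hc with rfl | rfl
  · simpa using Deg.const (A := A) d 0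
  · simpa using h

theorem Deg.mul {d e : ℕ} {f g : A → ZMod 2} (hf : Deg d f) (hg : Deg e g) : Deg (d + e) fun x => f x * g x := by
  induction hn : d + e generalizing d e f g with
  | zero =>
    obtain ⟨rfl, rfl⟩ : d = 0 ∧ e = 0 := by omega
    intro x y
    change f x * g x = f y * g y
    rw [hf x y, hg x y]
  | succ n ih =>
    rcases d with _ | d
    · obtain rfl : e = n + 1 := by omega
      have e1 : (fun x => f x * g x) = fun x => f 1 * g x := by
        funext x; rw [hf x 1]
      rw [e1]
      exact hg.const_mul _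
    rcases e with _ | e
    · obtain rfl : d = n := by omega
      have e1 : (fun x => f x * g x) = fun x => g 1 * f x := by
        funext x; rw [hg x 1, mul_comm]
      rw [e1]
      exact hf.const_mul _
    intro a
    have h1 : Deg n fun x => (f (x * a) + f x) * g (x * a) := ih (hf a) (hg.translate a) (by omega)
    have h2 : Deg n fun x => f x * (g (x * a) + g x) := ih hf (hg a) (by omega)
    have h3 := h1.add h2
    have e1 : (fun x => (f (x * a) + f x) * g (x * a) + f x * (g (x * a) + g x)) =
        fun x => f (x * a) * g (x * a) + f x * g x := by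
      funext x
      have := zadd (f x * g (x * a))
      linear_combination this
    rw [e1] at h3
    exact h3

theorem Deg.comp {A' : Type*} [Group A'] {d : ℕ} {f : A → ZMod 2} (h : Deg d f) (φ : A' →* A) :
    Deg d fun x => f (φ x) := by
  induction d generalizing f with
  | zero => exact fun x y => h _ _
  | succ d ih =>
    intro a
    have h1 := ih (h (φ a))
    simpa only [← map_mul] using h1

end deg

/-- **Reed-Muller distance.** -/
theorem weight_le (n : ℕ) : ∀ {A : Type*} [Group A] [Finite A], Nat.card A ≤ n → (∀ a : A, a * a = 1) →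
    ∀ {d : ℕ} {f : A → ZMod 2}, Deg d f → (∃ x, f x ≠ 0) →
      Nat.card A ≤ {x : A | f x ≠ 0}.ncard * 2 ^ d := by
  induction n with
  | zero =>
    intro A _ _ hn
    have := Nat.card_pos (α := A)
    omega
  | succ n ih =>
    intro A _ _ hn h2 d f hf hne
    obtain ⟨x0, hx0⟩ := hne
    rcases d with _ | d
    · have e : {x : A | f x ≠ 0} = Set.univ := by
        ext x
        simp only [Set.mem_ofPred_eq, Set.mem_univ, iff_true]
        rw [hf x x0]
        exact hx0
      rw [e, Set.ncard_univ, pow_zero, mul_one]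
    by_cases hA : Nat.card A = 1
    · rw [hA]
      have h1 : 0 < {x : A | f x ≠ 0}.ncard := (Set.ncard_pos).2 ⟨x0, hx0⟩
      exact Nat.mul_pos h1 (by positivity)
    -- a subgroup of index 2
    have hp : Fact (Nat.Prime 2) := ⟨Nat.prime_two⟩
    have hP : IsPGroup 2 A := fun a => ⟨1, by rw [pow_one, pow_two, h2 a]⟩
    obtain ⟨k, hk⟩ := IsPGroup.iff_card.1 hP
    rcases k with _ | k
    · exact absurd (by rw [hk]; rfl) hA
    obtain ⟨H, hH⟩ := Sylow.exists_subgroup_card_pow_prime 2 (G := A) (n := k)
      (by rw [hk]; exact pow_dvd_pow 2 (Nat.le_succ k))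
    have hidx : H.index = 2 := by
      have h3 := H.card_mul_index
      rw [hH, hk, pow_succ] at h3
      exact Nat.eq_of_mul_eq_mul_left (by positivity) h3
    have hHt : H ≠ ⊤ := by
      rintro rfl
      rw [index_top] at hidx
      omega
    obtain ⟨b, hb⟩ : ∃ b : A, b ∉ H := by
      by_contra hcon
      push Not at hcon
      exact hHt (eq_top_iff.2 fun x _ => hcon x)
    have hcard : Nat.card A = 2 * Nat.card H := by rw [← H.card_mul_index, hidx, mul_comm]
    have hHn : Nat.card H ≤ n := by
      have := Nat.card_pos (α := H)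
      omega
    have hH2 : ∀ a : H, a * a = 1 := fun a => Subtype.ext (h2 a)
    -- the two halves
    have key : {x : A | f x ≠ 0}.ncard =
        {x : H | f x ≠ 0}.ncard + {x : H | f (x * b) ≠ 0}.ncard := by
      have e1 : {x : A | f x ≠ 0} ∩ (H : Set A) = (fun x : H => (x : A)) '' {x : H | f x ≠ 0} := by
        ext x
        constructor
        · rintro ⟨h3, h4⟩
          exact ⟨⟨x, h4⟩, h3, rfl⟩
        · rintro ⟨y, hy, rfl⟩
          exact ⟨hy, y.2⟩
      have e2 : {x : A | f x ≠ 0} \ (H : Set A) = (fun x : H => (x : A) * b) '' {x : H | f (x * b) ≠ 0} := by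
        ext x
        constructor
        · rintro ⟨h3, h4⟩
          have h5 : x * b ∈ H := (mul_mem_iff_of_index_two hidx).2 ⟨fun h => absurd h h4, fun h => absurd h hb⟩
          refine ⟨⟨x * b, h5⟩, ?_, ?_⟩
          · change f (x * b * b) ≠ 0
            rw [mul_assoc, h2, mul_one]
            exact h3
          · change x * b * b = x
            rw [mul_assoc, h2, mul_one]
        · rintro ⟨y, hy, rfl⟩
          refine ⟨hy, fun h => hb ?_⟩
          exact (H.mul_mem_cancel_left y.2).1 h
      rw [← Set.ncard_inter_add_ncard_sdiff_eq_ncard {x : A | f x ≠ 0} (H : Set A), e1, e2,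
        Set.ncard_image_of_injective _ Subtype.val_injective,
        Set.ncard_image_of_injective _ (fun x y hxy => Subtype.ext (mul_right_cancel hxy))]
    by_cases hd : ∃ x : H, f (x * b) + f x ≠ 0
    · have h3 : Deg d fun x : H => f (x * b) + f x := (hf b).comp H.subtype
      have h4 := ih hHn hH2 h3 hd
      have h5 : {x : H | f (x * b) + f x ≠ 0}.ncard ≤
          {x : H | f x ≠ 0}.ncard + {x : H | f (x * b) ≠ 0}.ncard := by
        refine le_trans (Set.ncard_le_ncard (t := {x : H | f x ≠ 0} ∪ {x : H | f (x * b) ≠ 0}) ?_)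
          (Set.ncard_union_le _ _)
        intro x hx
        by_contra hcon
        simp only [Set.mem_union, Set.mem_ofPred_eq, not_or, not_not] at hcon
        exact hx (by rw [hcon.1, hcon.2, add_zero])
      rw [hcard, key, pow_succ]
      calc 2 * Nat.card H ≤ 2 * ({x : H | f (x * b) + f x ≠ 0}.ncard * 2 ^ d) := Nat.mul_le_mul_left _ h4
        _ ≤ 2 * (({x : H | f x ≠ 0}.ncard + {x : H | f (x * b) ≠ 0}.ncard) * 2 ^ d) :=
          Nat.mul_le_mul_left _ (Nat.mul_le_mul_right _ h5)
        _ = _ := by ring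
    · push Not at hd
      have h0 : ∀ x : H, f (x * b) = f x := by
        intro x
        have := hd x
        have h1 := zadd (f x)
        calc f (x * b) = (f (x * b) + f x) + f x - (f x + f x) := by ring
          _ = f x := by rw [this, h1]; ring
      have e3 : {x : H | f (x * b) ≠ 0} = {x : H | f x ≠ 0} := by
        ext x
        simp only [Set.mem_ofPred_eq, h0 x]
      have h3 : ∃ x : H, f x ≠ 0 := by
        by_cases hx : x0 ∈ H
        · exact ⟨⟨x0, hx⟩, hx0⟩
        · have h5 : x0 * b ∈ H := (mul_mem_iff_of_index_two hidx).2 ⟨fun h => absurd h hx, fun h => absurd h hb⟩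
          refine ⟨⟨x0 * b, h5⟩, ?_⟩
          rw [← h0 ⟨x0 * b, h5⟩]
          change f (x0 * b * b) ≠ 0
          rw [mul_assoc, h2, mul_one]
          exact hx0
      have h4 := ih hHn hH2 (d := d + 1) (f := fun x : H => f x) (hf.comp H.subtype) h3
      rw [hcard, key, e3]
      calc 2 * Nat.card H ≤ 2 * ({x : H | f x ≠ 0}.ncard * 2 ^ (d + 1)) := Nat.mul_le_mul_left _ h4
        _ = _ := by ring

section quad

variable {V : Type*} [AddCommGroup V]

theorem z01 : ∀ x : ZMod 2, x ≠ 0 → x = 1 := by decide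

theorem z02 : ∀ x : ZMod 2, 1 + x ≠ 0 ↔ x = 0 := by decide

/-- functionals separate -/
theorem exists_fun (h2 : ∀ v : V, v + v = 0) {C : AddSubgroup V} {v : V} (hv : v ∉ C) :
    ∃ l : V →+ ZMod 2, (∀ c ∈ C, l c = 0) ∧ l v = 1 := by
  have hp : Fact (Nat.Prime 2) := ⟨Nat.prime_two⟩
  let _ : Module (ZMod 2) V := AddCommGroup.zmodModule fun x => by rw [two_nsmul]; exact h2 x
  let p : Submodule (ZMod 2) V := AddSubgroup.toZModSubmodule 2 C
  have hv' : v ∉ p := hv
  obtain ⟨l, hl, hp⟩ := p.exists_le_ker_of_notMem hv'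
  refine ⟨l.toAddMonoidHom, fun c hc => hp hc, ?_⟩
  exact z01 _ hl

theorem relIndex_pos [Finite V] (C H : AddSubgroup V) : 0 < C.relIndex H := by
  rw [AddSubgroup.relIndex, AddSubgroup.index_eq_card]
  exact Nat.card_pos

/-- The indicator function of `φ⁻¹(C)`. -/
theorem exists_ind {A : Type*} [Group A] [Finite V] (h2 : ∀ v : V, v + v = 0) {φ : A → V}
    (hφ : ∀ l : V →+ ZMod 2, Deg 2 fun a => l (φ a)) {H : AddSubgroup V} (hH : ∀ a, φ a ∈ H) (n : ℕ) :
    ∀ C : AddSubgroup V, C ≤ H → C.relIndex H ≤ n → ∃ (k : ℕ) (P : A → ZMod 2), 2 ^ k = C.relIndex H ∧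
      Deg (2 * k) P ∧ ∀ a, P a ≠ 0 ↔ φ a ∈ C := by
  induction n with
  | zero =>
    intro C _ hn
    have := relIndex_pos C H
    omega
  | succ n ih =>
    intro C hC hn
    by_cases hCH : H ≤ C
    · refine ⟨0, fun _ => 1, ?_, Deg.const _ 1, fun a => ?_⟩
      · rw [pow_zero, eq_comm, AddSubgroup.relIndex_eq_one]; exact hCH
      · exact iff_of_true one_ne_zero (hCH (hH a))
    obtain ⟨v, hvH, hvC⟩ := SetLike.not_le_iff_exists.1 hCH
    obtain ⟨l, hl, hlv⟩ := exists_fun h2 hvC
    have hz : ∀ x : V, x ∈ AddSubgroup.zmultiples v → x = 0 ∨ x = v := by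
      intro x hx
      obtain ⟨m, rfl⟩ := AddSubgroup.mem_zmultiples_iff.1 hx
      rcases Int.even_or_odd' m with ⟨j, rfl | rfl⟩
      · left; rw [mul_comm, mul_zsmul, two_zsmul, h2, zsmul_zero]
      · right; rw [add_zsmul, mul_comm, mul_zsmul, two_zsmul, h2, zsmul_zero, one_zsmul, zero_add]
    have hC1 : ∀ x : V, x ∈ C ⊔ AddSubgroup.zmultiples v → x ∈ C ∨ x + v ∈ C := by
      intro x hx
      obtain ⟨c, hc, y, hy, rfl⟩ := AddSubgroup.mem_sup.1 hx
      rcases hz y hy with rfl | rfl
      · left; rw [add_zero]; exact hc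
      · right; rw [add_assoc, h2, add_zero]; exact hc
    have hle : C ≤ C ⊔ AddSubgroup.zmultiples v := le_sup_left
    have hle2 : C ⊔ AddSubgroup.zmultiples v ≤ H := sup_le hC (by rwa [AddSubgroup.zmultiples_le])
    have hv1 : v ∈ C ⊔ AddSubgroup.zmultiples v :=
      (le_sup_right : AddSubgroup.zmultiples v ≤ _) (AddSubgroup.mem_zmultiples v)
    have hi : C.relIndex (C ⊔ AddSubgroup.zmultiples v) = 2 := by
      rw [AddSubgroup.relIndex_eq_two_iff]
      refine ⟨v, hv1, fun x hx => ?_⟩
      rcases hC1 x hx with h3 | h3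
      · refine Or.inr ⟨h3, fun h4 => hvC ?_⟩
        have := C.sub_mem h4 h3
        simpa using this
      · refine Or.inl ⟨h3, fun h4 => hvC ?_⟩
        have := C.sub_mem h3 h4
        simpa using this
    have hmul : C.relIndex (C ⊔ AddSubgroup.zmultiples v) * (C ⊔ AddSubgroup.zmultiples v).relIndex H =
        C.relIndex H := AddSubgroup.relIndex_mul_relIndex _ _ _ hle hle2
    rw [hi] at hmul
    have hpos := relIndex_pos (C ⊔ AddSubgroup.zmultiples v) H
    have hp : Fact (Nat.Prime 2) := ⟨Nat.prime_two⟩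
    obtain ⟨k, P, hk, hP, hPa⟩ := ih (C ⊔ AddSubgroup.zmultiples v) hle2 (by omega)
    refine ⟨k + 1, fun a => P a * (1 + l (φ a)), ?_, ?_, fun a => ?_⟩
    · rw [← hmul, ← hk, pow_succ, mul_comm]
    · have h3 : Deg 2 fun a => 1 + l (φ a) := (Deg.const 2 1).add (hφ l)
      exact hP.mul h3
    · rw [mul_ne_zero_iff, hPa, z02]
      constructor
      · rintro ⟨h4, h5⟩
        rcases hC1 _ h4 with h6 | h6
        · exact h6
        · exfalso
          have h7 := hl _ h6
          rw [map_add, h5, hlv, zero_add] at h7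
          exact one_ne_zero h7
      · intro h4
        exact ⟨hle h4, hl _ h4⟩

/-- **Quadratic maps.** -/
theorem rmq {A : Type*} [Group A] [Finite A] (hA : ∀ a : A, a * a = 1) [Finite V]
    (h2 : ∀ v : V, v + v = 0) {φ : A → V} (hφ : ∀ l : V →+ ZMod 2, Deg 2 fun a => l (φ a))
    {C H : AddSubgroup V} (hCH : C ≤ H) (hH : ∀ a, φ a ∈ H) (hne : ∃ a, φ a ∈ C) :
    Nat.card A ≤ {a : A | φ a ∈ C}.ncard * C.relIndex H ^ 2 := by
  obtain ⟨k, P, hk, hP, hPa⟩ := exists_ind h2 hφ hH _ C hCH le_rfl
  obtain ⟨a, ha⟩ := hne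
  have h3 := weight_le _ (A := A) le_rfl hA hP ⟨a, (hPa a).2 ha⟩
  have e : {x : A | P x ≠ 0} = {a : A | φ a ∈ C} := by
    ext x; exact hPa x
  rw [e] at h3
  rwa [← hk, ← pow_mul, mul_comm k 2]

end quad

end Cfsg.Agent.Omega.NO1.Plus
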